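import Groth.Agent.Lib.Helper90.DTen.Rel.Data
import Groth.Agent.Lib.Helper90.DTen.CxAdj

/-!
# The pairing `V ⊗ E ⟶ 𝟙` identifies `V` with the dual of `E` (helper90)
-/

set_option autoImplicit false
set_option linter.style.haveILetI false
set_option linter.unusedSectionVars false
set_option backward.isDefEq.respectTransparency false
universe u
open CategoryTheory CategoryTheory.Limits MonoidalCategory
attribute [local instance] HasDerivedCategory.standard

namespace Groth.Agent.Lib.Helper90.DTen.Rel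

open _root_.DTen Groth.Agent.Lib.Helper28 Groth.Agent.Lib.Helper26.AdjKProj
  Groth.Agent.Lib.Helper90.DTen.BC Groth.Agent.Lib.Helper26.KProjQ
  Groth.Agent.Lib.Helper26.TensorHomCx Groth.Agent.Lib.Helper90.DTen

section Bij

variable {C : Type*} [Category C]

lemma bij_postcomp {X Y : C} (Z : C) (f : X ⟶ Y) [IsIso f] :
    Function.Bijective (fun z : Z ⟶ X => z ≫ f) :=
  ⟨fun _ _ h => (cancel_mono f).1 h, fun w => ⟨w ≫ inv f, by simp⟩⟩

lemma bij_precomp {X Y : C} (Z : C) (f : X ⟶ Y) [IsIso f] :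
    Function.Bijective (fun z : Y ⟶ Z => f ≫ z) :=
  ⟨fun _ _ h => (cancel_epi f).1 h, fun w => ⟨inv f ≫ w, by simp⟩⟩

end Bij

section UncurryD

variable {R : Type u} [CommRing R] (T L X : DRing.Cx R) [T.IsKProjective] [L.IsKProjective]

/-- `uncurry` on maps in the derived category, for a K-projective source. -/
noncomputable def uncurryD (z : DerivedCategory.Q.obj T ⟶ DerivedCategory.Q.obj (DRing.homCx L X)) :
    DerivedCategory.Q.obj (T ⊗ L) ⟶ DerivedCategory.Q.obj X :=
  DerivedCategory.Q.map (uncurryHom (Classical.choose (Q_map_surjective T _ z)))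

lemma uncurryD_Q_map (g : T ⟶ DRing.homCx L X) :
    uncurryD T L X (DerivedCategory.Q.map g) = DerivedCategory.Q.map (uncurryHom g) := by
  have h := Classical.choose_spec (Q_map_surjective T _ (DerivedCategory.Q.map g))
  obtain ⟨H⟩ := nonempty_homotopy_of_Q_map_eq _ _ h
  exact Q_map_eq_of_homotopy _ _ (uncurryHomHomotopy H)

lemma bijective_uncurryD : Function.Bijective (uncurryD T L X) := by
  haveI : (T ⊗ L).IsKProjective := isKProjective_tensor T L
  constructor
  · intro z z' h
    obtain ⟨g, rfl⟩ := Q_map_surjective T _ z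
    obtain ⟨g', rfl⟩ := Q_map_surjective T _ z'
    rw [uncurryD_Q_map, uncurryD_Q_map] at h
    obtain ⟨H⟩ := nonempty_homotopy_of_Q_map_eq _ _ h
    have H' := curryHomHomotopy H
    rw [curryHom_uncurryHom, curryHom_uncurryHom] at H'
    exact Q_map_eq_of_homotopy _ _ H'
  · intro w
    obtain ⟨w', rfl⟩ := Q_map_surjective (T ⊗ L) _ w
    exact ⟨DerivedCategory.Q.map (curryHom w'), by rw [uncurryD_Q_map, uncurryHom_curryHom]⟩

end UncurryD

variable {R A : Type u} [CommRing R] [CommRing A] {φ : R →+* A} {om : Dual.D A}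
  {tr : (DRing.restrictD φ).obj om ⟶ DerivedCategory.Q.obj (𝟙_ (DRing.Cx R))} (D : RelData φ om tr)

section Lambda

variable (H : DRing.Cx R) [H.IsKProjective]

instance isIso_Q_uR : IsIso (DerivedCategory.Q.map (uR φ D.E D.q H)) := by
  haveI := quasiIso_uR φ D.E D.q H
  infer_instance

/-- the bijection `adjunctD` as an equivalence -/
noncomputable def adjDEquiv :
    (DerivedCategory.Q.obj ((extCx φ).obj H) ⟶ DerivedCategory.Q.obj D.W) ≃
      (DerivedCategory.Q.obj H ⟶ (DRing.restrictD φ).obj (DerivedCategory.Q.obj D.W)) :=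
  Equiv.ofBijective _ (bijective_adjunctD (mAdj φ) H (DerivedCategory.Q.obj D.W))

lemma adjDEquiv_symm_Q_map (y : H ⟶ (resCx φ).obj D.W) :
    (adjDEquiv D H).symm (DerivedCategory.Q.map y ≫ (resFactors φ).inv.app D.W) =
      DerivedCategory.Q.map (adjunctInv (mAdj φ) y) := by
  rw [Equiv.symm_apply_eq]
  change _ = adjunctD (mAdj φ) H (DerivedCategory.Q.obj D.W)
    (DerivedCategory.Q.map (adjunctInv (mAdj φ) y))
  rw [adjunctD_Q_map, adjunct_adjunctInv]

/-- The pairing map on the derived level. -/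
noncomputable def lamD (z : DerivedCategory.Q.obj H ⟶ DerivedCategory.Q.obj ((resCx φ).obj D.W)) :
    DerivedCategory.Q.obj (H ⊗ D.E) ⟶ DerivedCategory.Q.obj (𝟙_ (DRing.Cx R)) :=
  DerivedCategory.Q.map (uR φ D.E D.q H) ≫ (resFactors φ).inv.app ((extCx φ).obj H) ≫
    (DRing.restrictD φ).map ((adjDEquiv D H).symm (z ≫ (resFactors φ).inv.app D.W) ≫ D.eW.hom) ≫
    tr

lemma bijective_lamD : Function.Bijective (lamD D H) := by
  have h1 := bij_postcomp (DerivedCategory.Q.obj H) ((resFactors φ).inv.app D.W)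
  have h2 := (adjDEquiv D H).symm.bijective
  have h3 := bij_postcomp (DerivedCategory.Q.obj ((extCx φ).obj H)) D.eW.hom
  have h4 := D.hU (DerivedCategory.Q.obj ((extCx φ).obj H))
  have h5 := bij_precomp (DerivedCategory.Q.obj (𝟙_ (DRing.Cx R)))
    (DerivedCategory.Q.map (uR φ D.E D.q H) ≫ (resFactors φ).inv.app ((extCx φ).obj H))
  have := h5.comp (h4.comp (h3.comp (h2.comp h1)))
  convert this using 1
  funext z
  dsimp only [lamD, Function.comp]
  rw [Category.assoc]

lemma lamD_Q_map (y : H ⟶ (resCx φ).obj D.W) :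
    lamD D H (DerivedCategory.Q.map y) =
      DerivedCategory.Q.map ((y ▷ D.E) ≫ act φ D.E D.q D.W) ≫ D.tr' := by
  dsimp only [lamD, RelData.tr']
  rw [adjDEquiv_symm_Q_map]
  have h1 := uR_comp_res φ D.E D.q (adjunctInv (mAdj φ) y)
  rw [adjunct_adjunctInv] at h1
  have h2 := (resFactors φ).inv.naturality (adjunctInv (mAdj φ) y)
  dsimp only [Functor.comp_obj, Functor.comp_map] at h2
  rw [← h1, Functor.map_comp, Functor.map_comp, Category.assoc, Category.assoc, reassoc_of% h2]

end Lambda

section Dual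

/-- the comparison `V ⟶ Hom•(E, 𝟙)` -/
noncomputable def cmap : D.V ⟶ DRing.homCx D.E (𝟙_ (DRing.Cx R)) := curryHom D.ev

lemma uncurryHom_cmap : uncurryHom (cmap D) = D.ev := uncurryHom_curryHom _

instance isIso_Q_k : IsIso (DerivedCategory.Q.map D.k) := inferInstance

lemma uncurryD_comp_cmap (H : DRing.Cx R) [H.IsKProjective]
    (z : DerivedCategory.Q.obj H ⟶ DerivedCategory.Q.obj D.V) :
    uncurryD H D.E (𝟙_ (DRing.Cx R)) (z ≫ DerivedCategory.Q.map (cmap D)) =
      lamD D H (z ≫ DerivedCategory.Q.map D.k) := by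
  obtain ⟨y, rfl⟩ := Q_map_surjective H _ z
  rw [← Functor.map_comp, ← Functor.map_comp, uncurryD_Q_map, lamD_Q_map, uncurryHom_comp_left,
    uncurryHom_cmap, Functor.map_comp, D.hev']
  simp only [Functor.map_comp, Category.assoc, comp_whiskerRight]

instance quasiIso_cmap : QuasiIso (cmap D) := by
  rw [← DerivedCategory.isIso_Q_map_iff_quasiIso]
  apply isIso_of_bijective_kproj
  intro H _
  have h1 := bijective_uncurryD H D.E (𝟙_ (DRing.Cx R))
  have h2 := (bijective_lamD D H).comp
    (bij_postcomp (DerivedCategory.Q.obj H) (DerivedCategory.Q.map D.k))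
  have h3 : uncurryD H D.E (𝟙_ (DRing.Cx R)) ∘
      (fun z : DerivedCategory.Q.obj H ⟶ DerivedCategory.Q.obj D.V =>
        z ≫ DerivedCategory.Q.map (cmap D)) =
      lamD D H ∘ (fun z => z ≫ DerivedCategory.Q.map D.k) := by
    funext z
    exact uncurryD_comp_cmap D H z
  rw [← h3] at h2
  exact (Function.Bijective.of_comp_iff' h1 _).1 h2

end Dual

end Groth.Agent.Lib.Helper90.DTen.Rel
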