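import Groth.Agent.Lib.Helper90.DTen.Rel.PF
import Groth.Agent.Lib.Helper90.DTen.BC.PerfMod

/-!
# The right action of a resolution `E ⟶ res 𝟙` on restricted complexes (helper90)
-/

set_option autoImplicit false
set_option backward.isDefEq.respectTransparency false
universe u
open CategoryTheory CategoryTheory.Limits MonoidalCategory
open scoped TensorProduct ChangeOfRings
attribute [local instance] HasDerivedCategory.standard

namespace Groth.Agent.Lib.Helper90.DTen.Rel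

open _root_.DTen Groth.Agent.Lib.Helper28 Groth.Agent.Lib.Helper26.AdjKProj
  Groth.Agent.Lib.Helper90.DTen.BC

variable {R A : Type u} [CommRing R] [CommRing A] (φ : R →+* A)

/-- The right action `res Y ⊗ res 𝟙 ⟶ res Y`. -/
noncomputable def actU (Y : DRing.Cx A) : (resCx φ).obj Y ⊗ resUnit φ ⟶ (resCx φ).obj Y :=
  resTenCx φ Y (𝟙_ (DRing.Cx A)) ≫ (resCx φ).map (ρ_ Y).hom

lemma actU_naturality {Y Y' : DRing.Cx A} (f : Y ⟶ Y') :
    ((resCx φ).map f ▷ resUnit φ) ≫ actU φ Y' = actU φ Y ≫ (resCx φ).map f := by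
  dsimp only [actU]
  have h := resTenCx_whiskerRight φ f (𝟙_ (DRing.Cx A))
  rw [reassoc_of% h, Category.assoc, ← Functor.map_comp, ← Functor.map_comp,
    rightUnitor_naturality]

/-- `pf` is linear for the right action of `res 𝟙`. -/
lemma pf_actU (P : DRing.Cx R) (W : DRing.Cx A) :
    (pf φ P W ▷ resUnit φ) ≫ actU φ ((extCx φ).obj P ⊗ W) =
      (α_ P ((resCx φ).obj W) (resUnit φ)).hom ≫ (P ◁ actU φ W) ≫ pf φ P W := by
  have h1 := resTenCx_assoc φ ((extCx φ).obj P) W (𝟙_ (DRing.Cx A))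
  have h2 := resTenCx_whiskerLeft φ ((extCx φ).obj P) (ρ_ W).hom
  have h3 : (ρ_ ((extCx φ).obj P ⊗ W)).hom =
      (α_ ((extCx φ).obj P) W (𝟙_ (DRing.Cx A))).hom ≫ ((extCx φ).obj P ◁ (ρ_ W).hom) :=
    MonoidalCategory.rightUnitor_tensor_hom _ _
  dsimp only [actU, pf]
  rw [h3, Functor.map_comp, comp_whiskerRight, MonoidalCategory.whiskerLeft_comp]
  simp only [Category.assoc]
  rw [reassoc_of% h1, ← h2]
  have h4 := associator_naturality_left ((unitCx φ).app P) ((resCx φ).obj W) (resUnit φ)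
  have h5 : (P ◁ resTenCx φ W (𝟙_ (DRing.Cx A))) ≫
      ((unitCx φ).app P ▷ (resCx φ).obj (W ⊗ 𝟙_ (DRing.Cx A))) =
      ((unitCx φ).app P ▷ ((resCx φ).obj W ⊗ resUnit φ)) ≫
        ((resCx φ).obj ((extCx φ).obj P) ◁ resTenCx φ W (𝟙_ (DRing.Cx A))) :=
    whisker_exchange _ _
  have h6 := whisker_exchange ((unitCx φ).app P) ((resCx φ).map (ρ_ W).hom)
  dsimp only [Functor.id_obj, Functor.comp_obj] at h4 h5 h6 ⊢
  rw [reassoc_of% h4, ← reassoc_of% h5, ← reassoc_of% h6]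

variable (E : DRing.Cx R) (q : E ⟶ resUnit φ)

/-- The right action of `E` on a restricted complex, through `q : E ⟶ res 𝟙`. -/
noncomputable def act (Y : DRing.Cx A) : (resCx φ).obj Y ⊗ E ⟶ (resCx φ).obj Y :=
  ((resCx φ).obj Y ◁ q) ≫ actU φ Y

lemma act_naturality {Y Y' : DRing.Cx A} (f : Y ⟶ Y') :
    ((resCx φ).map f ▷ E) ≫ act φ E q Y' = act φ E q Y ≫ (resCx φ).map f := by
  dsimp only [act]
  rw [← whisker_exchange_assoc, actU_naturality, Category.assoc]

/-- `pf` is linear for the right action of `E`. -/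
lemma pf_act (P : DRing.Cx R) (W : DRing.Cx A) :
    (pf φ P W ▷ E) ≫ act φ E q ((extCx φ).obj P ⊗ W) =
      (α_ P ((resCx φ).obj W) E).hom ≫ (P ◁ act φ E q W) ≫ pf φ P W := by
  dsimp only [act]
  rw [← whisker_exchange_assoc, pf_actU, MonoidalCategory.whiskerLeft_comp]
  simp only [Category.assoc]
  rw [associator_naturality_right_assoc]

/-- `σ^r_T : T ⊗ res 𝟙 ⟶ res (ext T)`. -/
noncomputable def sigmaR (T : DRing.Cx R) : T ⊗ resUnit φ ⟶ (resCx φ).obj ((extCx φ).obj T) :=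
  ((unitCx φ).app T ▷ resUnit φ) ≫ actU φ ((extCx φ).obj T)

lemma sigmaR_eq (T : DRing.Cx R) :
    sigmaR φ T = pf φ T (𝟙_ (DRing.Cx A)) ≫ (resCx φ).map (ρ_ ((extCx φ).obj T)).hom := by
  dsimp only [sigmaR, actU, pf]
  rw [Category.assoc]

instance isIso_sigmaR (T : DRing.Cx R) : IsIso (sigmaR φ T) := by
  rw [sigmaR_eq]
  infer_instance

/-- `u^r_T : T ⊗ E ⟶ res (ext T)`. -/
noncomputable def uR (T : DRing.Cx R) : T ⊗ E ⟶ (resCx φ).obj ((extCx φ).obj T) :=
  (T ◁ q) ≫ sigmaR φ T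

lemma quasiIso_uR [QuasiIso q] (T : DRing.Cx R) [T.IsKProjective] : QuasiIso (uR φ E q T) := by
  have : QuasiIso (T ◁ q) := TensCx.quasiIso_whiskerLeft T
    (fun C hC => KProjFlat.acyclic_tensor_left_of_kflat T (KProjFlat.kflat_of_isKProjective T) C hC) q
  dsimp only [uR]
  infer_instance

/-- The linear extension formula: `u^r_T ≫ res x = (adjunct x ▷ E) ≫ act`. -/
lemma uR_comp_res {T : DRing.Cx R} {Y : DRing.Cx A} (x : (extCx φ).obj T ⟶ Y) :
    uR φ E q T ≫ (resCx φ).map x = (adjunct (mAdj φ) x ▷ E) ≫ act φ E q Y := by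
  have h0 : adjunct (mAdj φ) x = (unitCx φ).app T ≫ (resCx φ).map x := by
    dsimp only [adjunct]
    rw [← Groth.Agent.Lib.Helper26.DTenSplit.unitCx_app_eq]
  dsimp only [uR, sigmaR, act]
  rw [h0, comp_whiskerRight]
  simp only [Category.assoc]
  rw [← actU_naturality, ← whisker_exchange_assoc, ← whisker_exchange_assoc]

end Groth.Agent.Lib.Helper90.DTen.Rel
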