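import Groth.Agent.Lib.Helper32.LBC
import Groth.Agent.Lib.Helper26.KProjQ
import Groth.Agent.Lib.Helper26.AdjKProj
import Groth.Agent.Lib.Helper6.ExactDC
import Groth.Prelude.Def_DTen4

/-!
# Generic lemmas on derived categories of modules via K-projective complexes (helper90)
-/

set_option autoImplicit false
set_option linter.style.haveILetI false
universe u v'
open CategoryTheory CategoryTheory.Limits
attribute [local instance] HasDerivedCategory.standard

namespace Groth.Agent.Lib.Helper90.DTen.Rel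

open Groth.Agent.Lib.Helper26.KProjQ Groth.Agent.Lib.Helper26.AdjKProj

section NatIso

variable {R : Type u} [Ring R] {C : Type*} [Category C]
  (F₁ F₂ : DerivedCategory (ModuleCat.{u} R) ⥤ C)

/-- Two functors on `D(R)` are isomorphic as soon as they are isomorphic on K-projective
complexes, naturally in chain maps. -/
theorem nonempty_natIso_of_kproj
    (t : ∀ (P : CochainComplex (ModuleCat.{u} R) ℤ) [P.IsKProjective],
      F₁.obj (DerivedCategory.Q.obj P) ≅ F₂.obj (DerivedCategory.Q.obj P))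
    (ht : ∀ (P P' : CochainComplex (ModuleCat.{u} R) ℤ) [P.IsKProjective] [P'.IsKProjective]
      (g : P ⟶ P'), F₁.map (DerivedCategory.Q.map g) ≫ (t P').hom =
        (t P).hom ≫ F₂.map (DerivedCategory.Q.map g)) :
    Nonempty (F₁ ≅ F₂) := by
  choose P hP e using fun K : DerivedCategory (ModuleCat.{u} R) =>
    Groth.Agent.Lib.Helper32.LBC.exists_kproj_iso K
  have e' : ∀ K, DerivedCategory.Q.obj (P K) ≅ K := fun K => (e K).some
  refine ⟨NatIso.ofComponents
    (fun K => F₁.mapIso (e' K).symm ≪≫ (haveI := hP K; t (P K)) ≪≫ F₂.mapIso (e' K)) ?_⟩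
  intro K K' f
  haveI := hP K
  haveI := hP K'
  obtain ⟨g, hg⟩ := Q_map_surjective (P K) (P K') ((e' K).hom ≫ f ≫ (e' K').inv)
  have h := ht (P K) (P K') g
  rw [hg] at h
  dsimp only [Iso.trans_hom, Functor.mapIso_hom, Iso.symm_hom]
  have h1 : F₁.map f ≫ F₁.map (e' K').inv =
      F₁.map (e' K).inv ≫ F₁.map ((e' K).hom ≫ f ≫ (e' K').inv) := by
    rw [← Functor.map_comp, ← Functor.map_comp, Iso.inv_hom_id_assoc]
  have h2 : F₂.map ((e' K).hom ≫ f ≫ (e' K').inv) ≫ F₂.map (e' K').hom =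
      F₂.map (e' K).hom ≫ F₂.map f := by
    rw [← Functor.map_comp, ← Functor.map_comp, Category.assoc, Category.assoc, Iso.inv_hom_id,
      Category.comp_id]
  rw [← Category.assoc, h1, Category.assoc, reassoc_of% h, h2]
  simp only [Category.assoc]

end NatIso

section Yoneda

variable {R : Type u} [Ring R]

/-- A map in `D(R)` inducing bijections on maps from all K-projective complexes is an
isomorphism. -/
theorem isIso_of_bijective_kproj {X Y : DerivedCategory (ModuleCat.{u} R)} (f : X ⟶ Y)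
    (h : ∀ (H : CochainComplex (ModuleCat.{u} R) ℤ) [H.IsKProjective],
      Function.Bijective (fun y : DerivedCategory.Q.obj H ⟶ X => y ≫ f)) : IsIso f := by
  obtain ⟨HY, hHY, ⟨eY⟩⟩ := Groth.Agent.Lib.Helper32.LBC.exists_kproj_iso Y
  obtain ⟨HX, hHX, ⟨eX⟩⟩ := Groth.Agent.Lib.Helper32.LBC.exists_kproj_iso X
  obtain ⟨y, hy⟩ := (h HY).2 eY.hom
  have hy' : y ≫ f = eY.hom := hy
  have h1 : (eY.inv ≫ y) ≫ f = 𝟙 Y := by rw [Category.assoc, hy', Iso.inv_hom_id]
  have h2 : f ≫ (eY.inv ≫ y) = 𝟙 X := by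
    have h3 : eX.hom ≫ f ≫ (eY.inv ≫ y) = eX.hom := by
      apply (h HX).1
      change (eX.hom ≫ f ≫ (eY.inv ≫ y)) ≫ f = eX.hom ≫ f
      rw [Category.assoc, Category.assoc, h1, Category.comp_id]
    have h4 : eX.hom ≫ f ≫ (eY.inv ≫ y) = eX.hom ≫ 𝟙 X := by rw [h3, Category.comp_id]
    exact (cancel_epi eX.hom).1 h4
  exact ⟨eY.inv ≫ y, h2, h1⟩

end Yoneda

section Conservative

variable {R A : Type u} [CommRing R] [CommRing A] (φ : R →+* A)

/-- Restriction of scalars on derived categories reflects isomorphisms. -/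
theorem isIso_of_isIso_restrictD {X Y : Dual.D A} (ψ : X ⟶ Y)
    (h : IsIso ((DRing.restrictD φ).map ψ)) : IsIso ψ := by
  rw [DerivedCategory.isIso_iff]
  intro n
  rw [← Groth.Agent.Lib.Helper6.ExactDC.isIso_homology_map_iff
    (F := ModuleCat.restrictScalars.{u} φ) ψ n]
  infer_instance

/-- A map `ψ` in `D(A)` inducing bijections on maps from `Q (ext T)`, `T` K-projective over `R`,
is an isomorphism. -/
theorem isIso_of_bijective_ext {X Y : Dual.D A} (ψ : X ⟶ Y)
    (h : ∀ (T : DRing.Cx R) [T.IsKProjective],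
      Function.Bijective
        (fun x : DerivedCategory.Q.obj ((DTen.extCx φ).obj T) ⟶ X => x ≫ ψ)) : IsIso ψ := by
  apply isIso_of_isIso_restrictD φ
  apply isIso_of_bijective_kproj
  intro T _
  have hb := h T
  have hX := bijective_adjunctD (ModuleCat.extendRestrictScalarsAdj.{u, u, u} φ) T X
  have hY := bijective_adjunctD (ModuleCat.extendRestrictScalarsAdj.{u, u, u} φ) T Y
  have hcomp : ∀ x : DerivedCategory.Q.obj ((DTen.extCx φ).obj T) ⟶ X,
      adjunctD (ModuleCat.extendRestrictScalarsAdj.{u, u, u} φ) T Y (x ≫ ψ) =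
        adjunctD (ModuleCat.extendRestrictScalarsAdj.{u, u, u} φ) T X x ≫
          (DRing.restrictD φ).map ψ :=
    fun x => adjunctD_comp _ T x ψ
  constructor
  · intro y y' hyy
    obtain ⟨x, rfl⟩ := hX.2 y
    obtain ⟨x', rfl⟩ := hX.2 y'
    have hyy' : adjunctD (ModuleCat.extendRestrictScalarsAdj.{u, u, u} φ) T X x ≫
        (DRing.restrictD φ).map ψ =
      adjunctD (ModuleCat.extendRestrictScalarsAdj.{u, u, u} φ) T X x' ≫
        (DRing.restrictD φ).map ψ := hyy
    rw [← hcomp, ← hcomp] at hyy'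
    have := hb.1 (hY.1 hyy')
    rw [this]
  · intro z
    obtain ⟨w, rfl⟩ := hY.2 z
    obtain ⟨x, hx⟩ := hb.2 w
    have hx' : x ≫ ψ = w := hx
    refine ⟨adjunctD (ModuleCat.extendRestrictScalarsAdj.{u, u, u} φ) T X x, ?_⟩
    change adjunctD (ModuleCat.extendRestrictScalarsAdj.{u, u, u} φ) T X x ≫
        (DRing.restrictD φ).map ψ = _
    rw [← hcomp, hx']

end Conservative

end Groth.Agent.Lib.Helper90.DTen.Rel
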