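import Groth.Agent.Lib.Helper90.DTen.Rel.Act
import Groth.Agent.Lib.Helper90.DTen.Rel.Generic

/-!
# The data used to compute the right adjoint of restriction for `A` perfect over `R` (helper90)
-/

set_option autoImplicit false
set_option linter.style.haveILetI false
set_option backward.isDefEq.respectTransparency false
universe u
open CategoryTheory CategoryTheory.Limits MonoidalCategory
attribute [local instance] HasDerivedCategory.standard

namespace Groth.Agent.Lib.Helper90.DTen.Rel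

open _root_.DTen Groth.Agent.Lib.Helper28 Groth.Agent.Lib.Helper26.AdjKProj
  Groth.Agent.Lib.Helper90.DTen.BC Groth.Agent.Lib.Helper26.KProjQ
  Groth.Agent.Lib.Helper26.TensorHomCx

variable {R A : Type u} [CommRing R] [CommRing A] (φ : R →+* A)

/-- All the choices: a finite projective resolution `q : E ⟶ res 𝟙` over `R`, a universal pair
`(ω, tr)` (a right adjoint object of `Q 𝟙_R`), a K-projective model `W` of `ω` over `A`, a
K-projective resolution `k : V ⟶ res W` over `R`, and chain level models `τ`, `ev` of the trace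
and of the pairing. -/
structure RelData (om : Dual.D A)
    (tr : (DRing.restrictD φ).obj om ⟶ DerivedCategory.Q.obj (𝟙_ (DRing.Cx R))) where
  E : DRing.Cx R
  a : ℤ
  b : ℤ
  hE : DRing.VanishesOutside E a b
  hfp : DRing.TermwiseFiniteProjective E
  q : E ⟶ resUnit φ
  hq : QuasiIso q
  hU : ∀ M : Dual.D A, Function.Bijective (fun x : M ⟶ om => (DRing.restrictD φ).map x ≫ tr)
  W : DRing.Cx A
  hW : W.IsKProjective
  eW : DerivedCategory.Q.obj W ≅ om
  V : DRing.Cx R
  hV : V.IsKProjective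
  k : V ⟶ (resCx φ).obj W
  hk : QuasiIso k
  τ : V ⟶ 𝟙_ (DRing.Cx R)
  hτ : DerivedCategory.Q.map τ = DerivedCategory.Q.map k ≫ (resFactors φ).inv.app W ≫
    (DRing.restrictD φ).map eW.hom ≫ tr
  ev : V ⊗ E ⟶ 𝟙_ (DRing.Cx R)
  hev : DerivedCategory.Q.map ev = DerivedCategory.Q.map ((k ▷ E) ≫ act φ E q W) ≫
    (resFactors φ).inv.app W ≫ (DRing.restrictD φ).map eW.hom ≫ tr

namespace RelData

variable {φ} {om : Dual.D A}
  {tr : (DRing.restrictD φ).obj om ⟶ DerivedCategory.Q.obj (𝟙_ (DRing.Cx R))} (D : RelData φ om tr)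

instance : QuasiIso D.q := D.hq
instance : D.W.IsKProjective := D.hW
instance : D.V.IsKProjective := D.hV
instance : QuasiIso D.k := D.hk

instance : D.E.IsKProjective :=
  Groth.Agent.Lib.Helper32.LBC.isKProjective_of_vanishesAbove D.E D.b
    (fun i hi => D.hE i (Or.inr hi)) (fun i => (D.hfp i).2)

/-- The trace `Q (res W) ⟶ Q 𝟙`. -/
noncomputable def tr' : DerivedCategory.Q.obj ((resCx φ).obj D.W) ⟶
    DerivedCategory.Q.obj (𝟙_ (DRing.Cx R)) :=
  (resFactors φ).inv.app D.W ≫ (DRing.restrictD φ).map D.eW.hom ≫ tr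

lemma hτ' : DerivedCategory.Q.map D.τ = DerivedCategory.Q.map D.k ≫ D.tr' := D.hτ

lemma hev' : DerivedCategory.Q.map D.ev =
    DerivedCategory.Q.map ((D.k ▷ D.E) ≫ act φ D.E D.q D.W) ≫ D.tr' := D.hev

end RelData

/-- The data exist as soon as `res 𝟙` is perfect and a universal pair is given. -/
theorem exists_relData (E : DRing.Cx R) (a b : ℤ) (hE : DRing.VanishesOutside E a b)
    (hfp : DRing.TermwiseFiniteProjective E)
    (e : DerivedCategory.Q.obj E ≅ DerivedCategory.Q.obj (resUnit φ))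
    (ω : Dual.D A) (tr : (DRing.restrictD φ).obj ω ⟶ DerivedCategory.Q.obj (𝟙_ (DRing.Cx R)))
    (hU : ∀ M : Dual.D A,
      Function.Bijective (fun x : M ⟶ ω => (DRing.restrictD φ).map x ≫ tr)) :
    Nonempty (RelData φ ω tr) := by
  haveI : E.IsKProjective := Groth.Agent.Lib.Helper32.LBC.isKProjective_of_vanishesAbove E b
    (fun i hi => hE i (Or.inr hi)) (fun i => (hfp i).2)
  obtain ⟨q, hq⟩ := Q_map_surjective E (resUnit φ) e.hom
  haveI : QuasiIso q := by
    rw [← DerivedCategory.isIso_Q_map_iff_quasiIso, hq]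
    infer_instance
  obtain ⟨W, hW, ⟨eW⟩⟩ := Groth.Agent.Lib.Helper32.LBC.exists_kproj_iso ω
  obtain ⟨V, k, hV, hk⟩ := Groth.Agent.Lib.Helper32.LBC.hasKProjRes R ((resCx φ).obj W)
  obtain ⟨τ, hτ⟩ := Q_map_surjective V (𝟙_ (DRing.Cx R))
    (DerivedCategory.Q.map k ≫ (resFactors φ).inv.app W ≫ (DRing.restrictD φ).map eW.hom ≫ tr)
  haveI : (V ⊗ E).IsKProjective := isKProjective_tensor V E
  obtain ⟨ev, hev⟩ := Q_map_surjective (V ⊗ E) (𝟙_ (DRing.Cx R))
    (DerivedCategory.Q.map ((k ▷ E) ≫ act φ E q W) ≫ (resFactors φ).inv.app W ≫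
      (DRing.restrictD φ).map eW.hom ≫ tr)
  exact ⟨⟨E, a, b, hE, hfp, q, inferInstance, hU, W, hW, eW, V, hV, k, hk, τ, hτ, ev, hev⟩⟩

end Groth.Agent.Lib.Helper90.DTen.Rel
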