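import Groth.Agent.Lib.Helper90.DTen.Rel.Main

/-!
# `RHomRel φ ≅ - ⊗^L_R RHomRel φ (R)` when `A` is perfect over `R` (helper90)
-/

set_option autoImplicit false
set_option linter.style.haveILetI false
set_option linter.unusedSectionVars false
set_option backward.isDefEq.respectTransparency false
universe u
open CategoryTheory CategoryTheory.Limits MonoidalCategory
attribute [local instance] HasDerivedCategory.standard

namespace Groth.Agent.Lib.Helper90.DTen.Rel

open _root_.DTen Groth.Agent.Lib.Helper28 Groth.Agent.Lib.Helper26.AdjKProj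
  Groth.Agent.Lib.Helper90.DTen.BC Groth.Agent.Lib.Helper26.KProjQ
  Groth.Agent.Lib.Helper26.TensorHomCx Groth.Agent.Lib.Helper90.DTen

variable {R A : Type u} [CommRing R] [CommRing A] {φ : R →+* A} [HasRHomRel φ]

section Theta

variable {K₀ : Dual.D R} (D : RelData φ ((RHomRel φ).obj (unit R)) (relEv φ (unit R)))
  (P : DRing.Cx R) [P.IsKProjective]

/-- The comparison `Q (ext P ⊗ W) ⟶ RHomRel (Q P)`. -/
noncomputable def thetaHom :
    DerivedCategory.Q.obj (zObj D P) ⟶ (RHomRel φ).obj (DerivedCategory.Q.obj P) :=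
  (relAdj φ).homEquiv _ _ (cP D P)

instance isIso_thetaHom : IsIso (thetaHom D P) := by
  apply isIso_of_bijective_ext φ
  intro T _
  have h1 := bijective_theta D P T
  have h2 := ((relAdj φ).homEquiv (DerivedCategory.Q.obj ((extCx φ).obj T))
    (DerivedCategory.Q.obj P)).bijective
  have h3 := h2.comp h1
  convert h3 using 1
  funext x
  dsimp only [Function.comp, thetaHom]
  rw [Adjunction.homEquiv_naturality_left]

lemma thetaHom_naturality {P P' : DRing.Cx R} [P.IsKProjective] [P'.IsKProjective] (g : P ⟶ P') :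
    DerivedCategory.Q.map ((extCx φ).map g ▷ D.W) ≫ thetaHom D P' =
      thetaHom D P ≫ (RHomRel φ).map (DerivedCategory.Q.map g) := by
  dsimp only [thetaHom]
  rw [← Adjunction.homEquiv_naturality_left, ← Adjunction.homEquiv_naturality_right,
    cP_naturality]

end Theta

section Gamma

variable [HasLTenMix φ] (D : RelData φ ((RHomRel φ).obj (unit R)) (relEv φ (unit R)))

/-- `K ↦ K ⊗^L_R ω`. -/
noncomputable abbrev gFun : Dual.D R ⥤ Dual.D A :=
  (Functor.curry.obj (LTenMix φ)).flip.obj ((RHomRel φ).obj (unit R))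

variable (P : DRing.Cx R) [P.IsKProjective]

/-- `Q P ⊗^L ω ⟶ Q (ext P ⊗ W)`. -/
noncomputable def gammaHom :
    (gFun (φ := φ)).obj (DerivedCategory.Q.obj P) ⟶ DerivedCategory.Q.obj (zObj D P) :=
  (LTenMix φ).map (Prod.mkHom (𝟙 (DerivedCategory.Q.obj P)) D.eW.inv) ≫ (εMix φ).app (P, D.W)

instance isIso_gammaHom : IsIso (gammaHom D P) := by
  haveI : IsIso ((εMix φ).app (P, D.W)) :=
    Groth.Agent.Lib.Helper26.DTenKProj.isIso_εMix φ P D.W
  haveI : IsIso (Prod.mkHom (𝟙 (DerivedCategory.Q.obj P)) D.eW.inv) :=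
    (isIso_prod_iff (f := Prod.mkHom (𝟙 (DerivedCategory.Q.obj P)) D.eW.inv)).2
      ⟨inferInstanceAs (IsIso (𝟙 _)), inferInstanceAs (IsIso D.eW.inv)⟩
  dsimp only [gammaHom]
  infer_instance

lemma gammaHom_naturality {P P' : DRing.Cx R} [P.IsKProjective] [P'.IsKProjective] (g : P ⟶ P') :
    (gFun (φ := φ)).map (DerivedCategory.Q.map g) ≫ gammaHom D P' =
      gammaHom D P ≫ DerivedCategory.Q.map ((extCx φ).map g ▷ D.W) := by
  have h1 := (εMix φ).naturality (Prod.mkHom g (𝟙 D.W))
  have h2 : (mix₂ φ).map (Prod.mkHom g (𝟙 D.W)) =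
      DerivedCategory.Q.map ((extCx φ).map g ▷ D.W) := by
    dsimp [mix₂, mixT]
    rw [MonoidalCategory.whiskerLeft_id, Category.comp_id]
  have h3 : (gFun (φ := φ)).map (DerivedCategory.Q.map g) =
      (LTenMix φ).map (Prod.mkHom (DerivedCategory.Q.map g) (𝟙 ((RHomRel φ).obj (unit R)))) := by
    dsimp [gFun]
  have h4 : (QMix R A ⋙ LTenMix φ).map (Prod.mkHom g (𝟙 D.W)) =
      (LTenMix φ).map (Prod.mkHom (DerivedCategory.Q.map g) (𝟙 (DerivedCategory.Q.obj D.W))) := by
    dsimp [QMix]
    rw [CategoryTheory.Functor.map_id]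
  rw [h2, h4] at h1
  dsimp only [gammaHom]
  rw [h3, Category.assoc, ← h1, ← Functor.map_comp_assoc, ← Functor.map_comp_assoc]
  congr 2
  apply Prod.ext <;> simp

end Gamma

section Final

variable [HasLTenMix φ]

/-- The isomorphism of functors, from the data. -/
theorem nonempty_iso_of_relData
    (D : RelData φ ((RHomRel φ).obj (unit R)) (relEv φ (unit R))) :
    Nonempty (RHomRel φ ≅ gFun (φ := φ)) := by
  have h := nonempty_natIso_of_kproj (gFun (φ := φ)) (RHomRel φ)
    (fun P _ => asIso (gammaHom D P) ≪≫ asIso (thetaHom D P))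
    (fun P P' _ _ g => by
      dsimp only [Iso.trans_hom, asIso_hom]
      rw [← Category.assoc, gammaHom_naturality, Category.assoc, thetaHom_naturality,
        Category.assoc])
  exact ⟨h.some.symm⟩

variable (φ) in
/-- The universal property of the counit of `relAdj`. -/
lemma bijective_relEv (K : Dual.D R) (M : Dual.D A) :
    Function.Bijective (fun x : M ⟶ (RHomRel φ).obj K =>
      (DRing.restrictD φ).map x ≫ relEv φ K) := by
  have h := ((relAdj φ).homEquiv M K).symm.bijective
  convert h using 1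
  funext x
  exact ((relAdj φ).homEquiv_counit M K x).symm

variable (φ) in
/-- `RHomRel φ ≅ - ⊗^L_R RHomRel φ (R)` when `A` is perfect as an `R`-module. -/
theorem nonempty_RHomRel_iso_of_isPerfect
    (hA : DRing.IsPerfect R ((DRing.restrictD φ).obj (unit A))) :
    Nonempty (RHomRel φ ≅
      (Functor.curry.obj (LTenMix φ)).flip.obj ((RHomRel φ).obj (unit R))) := by
  obtain ⟨E, a, b, hE, hfp, ⟨e⟩⟩ := hA
  let e' : DerivedCategory.Q.obj E ≅ DerivedCategory.Q.obj (resUnit φ) :=
    e ≪≫ (resFactors φ).app (𝟙_ (DRing.Cx A))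
  obtain ⟨D⟩ := exists_relData φ E a b hE hfp e' ((RHomRel φ).obj (unit R)) (relEv φ (unit R))
    (bijective_relEv φ (unit R))
  exact nonempty_iso_of_relData D

end Final

end Groth.Agent.Lib.Helper90.DTen.Rel
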