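import Groth.Agent.Lib.Helper90.DTen.Rel.Pairing
import Groth.Agent.Lib.Helper90.DTen.Main2

/-!
# `Q (ext P ⊗ W)` is the value at `Q P` of the right adjoint of restriction (helper90)
-/

set_option autoImplicit false
set_option linter.style.haveILetI false
set_option linter.unusedSectionVars false
set_option backward.isDefEq.respectTransparency false
universe u
open CategoryTheory CategoryTheory.Limits MonoidalCategory
attribute [local instance] HasDerivedCategory.standard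

namespace Groth.Agent.Lib.Helper90.DTen.Rel

open _root_.DTen Groth.Agent.Lib.Helper28 Groth.Agent.Lib.Helper26.AdjKProj
  Groth.Agent.Lib.Helper90.DTen.BC Groth.Agent.Lib.Helper26.KProjQ
  Groth.Agent.Lib.Helper26.TensorHomCx Groth.Agent.Lib.Helper90.DTen

variable {R A : Type u} [CommRing R] [CommRing A] {φ : R →+* A} {om : Dual.D A}
  {tr : (DRing.restrictD φ).obj om ⟶ DerivedCategory.Q.obj (𝟙_ (DRing.Cx R))} (D : RelData φ om tr)

section Defs

variable (P : DRing.Cx R) [P.IsKProjective]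

/-- The model `ext P ⊗ W` of `Q P ⊗^L ω`. -/
noncomputable abbrev zObj : DRing.Cx A := (extCx φ).obj P ⊗ D.W

/-- The quasi-isomorphism `P ⊗ V ⟶ res (ext P ⊗ W)`. -/
noncomputable def pk : P ⊗ D.V ⟶ (resCx φ).obj (zObj D P) := (P ◁ D.k) ≫ pf φ P D.W

lemma quasiIso_whiskerLeft_kproj {M N : DRing.Cx R} (f : M ⟶ N) [QuasiIso f] :
    QuasiIso (P ◁ f) :=
  TensCx.quasiIso_whiskerLeft P
    (fun C hC => KProjFlat.acyclic_tensor_left_of_kflat P (KProjFlat.kflat_of_isKProjective P) C hC) f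

instance quasiIso_pk : QuasiIso (pk D P) := by
  haveI := quasiIso_whiskerLeft_kproj P D.k
  dsimp only [pk]
  infer_instance

instance isIso_Q_pk : IsIso (DerivedCategory.Q.map (pk D P)) := inferInstance

/-- The counit `res Q(ext P ⊗ W) ⟶ Q P`. -/
noncomputable def cP : (DRing.restrictD φ).obj (DerivedCategory.Q.obj (zObj D P)) ⟶
    DerivedCategory.Q.obj P :=
  (resFactors φ).hom.app (zObj D P) ≫ inv (DerivedCategory.Q.map (pk D P)) ≫
    DerivedCategory.Q.map ((P ◁ D.τ) ≫ (ρ_ P).hom)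

end Defs

lemma pk_naturality {P P' : DRing.Cx R} [P.IsKProjective] [P'.IsKProjective] (g : P ⟶ P') :
    (g ▷ D.V) ≫ pk D P' = pk D P ≫ (resCx φ).map ((extCx φ).map g ▷ D.W) := by
  dsimp only [pk]
  rw [Category.assoc, ← pf_naturality_left, whisker_exchange_assoc]

lemma cP_naturality {P P' : DRing.Cx R} [P.IsKProjective] [P'.IsKProjective] (g : P ⟶ P') :
    (DRing.restrictD φ).map (DerivedCategory.Q.map ((extCx φ).map g ▷ D.W)) ≫ cP D P' =
      cP D P ≫ DerivedCategory.Q.map g := by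
  dsimp only [cP]
  have h1 := (resFactors φ).hom.naturality ((extCx φ).map g ▷ D.W)
  dsimp only [Functor.comp_obj, Functor.comp_map] at h1
  have h2 : DerivedCategory.Q.map ((resCx φ).map ((extCx φ).map g ▷ D.W)) ≫
      inv (DerivedCategory.Q.map (pk D P')) =
      inv (DerivedCategory.Q.map (pk D P)) ≫ DerivedCategory.Q.map (g ▷ D.V) := by
    rw [IsIso.comp_inv_eq, Category.assoc, IsIso.eq_inv_comp, ← Functor.map_comp,
      ← Functor.map_comp, pk_naturality]
  have h3 : (g ▷ D.V) ≫ (P' ◁ D.τ) ≫ (ρ_ P').hom = ((P ◁ D.τ) ≫ (ρ_ P).hom) ≫ g := by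
    rw [← whisker_exchange_assoc, rightUnitor_naturality, Category.assoc]
  rw [reassoc_of% h1, reassoc_of% h2, ← Functor.map_comp, h3, Functor.map_comp]
  simp only [Category.assoc]

section KF

/-- a lift of the action `V ⊗ E ⟶ res W` to `V`. -/
lemma exists_mul : ∃ m : D.V ⊗ D.E ⟶ D.V,
    Nonempty (Homotopy (m ≫ D.k) ((D.k ▷ D.E) ≫ act φ D.E D.q D.W)) ∧
      Nonempty (Homotopy (m ≫ D.τ) D.ev) := by
  haveI : (D.V ⊗ D.E).IsKProjective := isKProjective_tensor D.V D.E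
  obtain ⟨m, hm⟩ := Q_map_surjective (D.V ⊗ D.E) D.V
    (DerivedCategory.Q.map ((D.k ▷ D.E) ≫ act φ D.E D.q D.W) ≫ inv (DerivedCategory.Q.map D.k))
  refine ⟨m, nonempty_homotopy_of_Q_map_eq _ _ ?_, nonempty_homotopy_of_Q_map_eq _ _ ?_⟩
  · rw [Functor.map_comp, hm, Category.assoc, IsIso.inv_hom_id, Category.comp_id]
  · rw [Functor.map_comp, hm, D.hτ', D.hev', Category.assoc, IsIso.inv_hom_id_assoc]

variable (P : DRing.Cx R) [P.IsKProjective]

instance isIso_Q_whiskerLeft_k : IsIso (DerivedCategory.Q.map (P ◁ D.k)) := by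
  haveI := quasiIso_whiskerLeft_kproj P D.k
  infer_instance

lemma star :
    DerivedCategory.Q.map (P ◁ ((D.k ▷ D.E) ≫ act φ D.E D.q D.W)) ≫
      inv (DerivedCategory.Q.map (P ◁ D.k)) ≫ DerivedCategory.Q.map (P ◁ D.τ) =
    DerivedCategory.Q.map (P ◁ D.ev) := by
  obtain ⟨m, ⟨H1⟩, ⟨H2⟩⟩ := exists_mul D
  have e1 : DerivedCategory.Q.map (P ◁ ((D.k ▷ D.E) ≫ act φ D.E D.q D.W)) =
      DerivedCategory.Q.map (P ◁ m) ≫ DerivedCategory.Q.map (P ◁ D.k) := by
    rw [← Functor.map_comp, ← MonoidalCategory.whiskerLeft_comp]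
    exact (Q_map_eq_of_homotopy _ _ (TensCx.whiskerLeftHomotopy P H1)).symm
  have e2 : DerivedCategory.Q.map (P ◁ D.ev) =
      DerivedCategory.Q.map (P ◁ m) ≫ DerivedCategory.Q.map (P ◁ D.τ) := by
    rw [← Functor.map_comp, ← MonoidalCategory.whiskerLeft_comp]
    exact (Q_map_eq_of_homotopy _ _ (TensCx.whiskerLeftHomotopy P H2)).symm
  rw [e1, e2, Category.assoc, IsIso.hom_inv_id_assoc]

lemma pf_inv_pk :
    DerivedCategory.Q.map (pf φ P D.W) ≫ inv (DerivedCategory.Q.map (pk D P)) =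
      inv (DerivedCategory.Q.map (P ◁ D.k)) := by
  rw [IsIso.comp_inv_eq, IsIso.eq_inv_comp, ← Functor.map_comp]
  rfl

variable (T : DRing.Cx R) [T.IsKProjective]

lemma chain_identity (y₂ : T ⟶ P ⊗ D.V) :
    ((y₂ ≫ pk D P) ▷ D.E) ≫ act φ D.E D.q (zObj D P) =
      (y₂ ▷ D.E) ≫ (α_ P D.V D.E).hom ≫ (P ◁ ((D.k ▷ D.E) ≫ act φ D.E D.q D.W)) ≫
        pf φ P D.W := by
  dsimp only [pk]
  rw [comp_whiskerRight, comp_whiskerRight, Category.assoc, Category.assoc, pf_act,
    MonoidalCategory.whiskerLeft_comp]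
  simp only [Category.assoc]
  rw [associator_naturality_middle_assoc]

lemma uncurry_identity (y₂ : T ⟶ P ⊗ D.V) :
    uncurryHom (y₂ ≫ (P ◁ cmap D) ≫ canon P (𝟙_ (DRing.Cx R)) D.E) =
      (y₂ ▷ D.E) ≫ (α_ P D.V D.E).hom ≫ (P ◁ D.ev) := by
  have h1 : uncurryHom (canon P (𝟙_ (DRing.Cx R)) D.E) =
      (α_ P (DRing.homCx D.E (𝟙_ (DRing.Cx R))) D.E).hom ≫ P ◁ evCx D.E (𝟙_ (DRing.Cx R)) :=
    uncurryHom_curryHom _
  have h2 : D.ev = (cmap D ▷ D.E) ≫ evCx D.E (𝟙_ (DRing.Cx R)) := by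
    rw [← uncurryHom_eq, uncurryHom_cmap]
  rw [← Category.assoc, uncurryHom_comp_left, h1, comp_whiskerRight, h2,
    MonoidalCategory.whiskerLeft_comp]
  simp only [Category.assoc]
  rw [associator_naturality_middle_assoc]

theorem key_formula (x : (extCx φ).obj T ⟶ zObj D P) (y₂ : T ⟶ P ⊗ D.V)
    (hy : DerivedCategory.Q.map (y₂ ≫ pk D P) = DerivedCategory.Q.map (adjunct (mAdj φ) x)) :
    DerivedCategory.Q.map (uR φ D.E D.q T) ≫ (resFactors φ).inv.app ((extCx φ).obj T) ≫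
        (DRing.restrictD φ).map (DerivedCategory.Q.map x) ≫ cP D P =
      DerivedCategory.Q.map
        (uncurryHom (y₂ ≫ (P ◁ cmap D) ≫ canon P (𝟙_ (DRing.Cx R)) D.E) ≫ (ρ_ P).hom) := by
  have s1 : (resFactors φ).inv.app ((extCx φ).obj T) ≫
      (DRing.restrictD φ).map (DerivedCategory.Q.map x) ≫ (resFactors φ).hom.app (zObj D P) =
      DerivedCategory.Q.map ((resCx φ).map x) := by
    have h := (resFactors φ).hom.naturality x
    dsimp only [Functor.comp_obj, Functor.comp_map] at h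
    rw [h, Iso.inv_hom_id_app_assoc]
  have s3 : DerivedCategory.Q.map (adjunct (mAdj φ) x ▷ D.E) =
      DerivedCategory.Q.map ((y₂ ≫ pk D P) ▷ D.E) := by
    obtain ⟨H⟩ := nonempty_homotopy_of_Q_map_eq _ _ hy
    exact (Q_map_eq_of_homotopy _ _ (TensCx.whiskerRightHomotopy H D.E)).symm
  dsimp only [cP]
  rw [reassoc_of% s1, ← Functor.map_comp_assoc, uR_comp_res, Functor.map_comp_assoc, s3,
    ← Functor.map_comp_assoc, chain_identity]
  simp only [Functor.map_comp, Category.assoc]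
  rw [reassoc_of% (pf_inv_pk D P), reassoc_of% (star D P), uncurry_identity]
  simp only [Functor.map_comp, Category.assoc]

end KF

section Theta

variable (P : DRing.Cx R) [P.IsKProjective] (T : DRing.Cx R) [T.IsKProjective]

instance isIso_Q_cmap_canon :
    IsIso (DerivedCategory.Q.map ((P ◁ cmap D) ≫ canon P (𝟙_ (DRing.Cx R)) D.E)) := by
  haveI := quasiIso_whiskerLeft_kproj P (cmap D)
  haveI : IsIso (canon P (𝟙_ (DRing.Cx R)) D.E) :=
    isIso_canon' P (𝟙_ (DRing.Cx R)) D.E D.a D.b D.hE D.hfp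
  haveI : QuasiIso ((P ◁ cmap D) ≫ canon P (𝟙_ (DRing.Cx R)) D.E) := inferInstance
  infer_instance

/-- The universal property of `cP`, tested on `Q (ext T)`. -/
theorem bijective_theta :
    Function.Bijective (fun x : DerivedCategory.Q.obj ((extCx φ).obj T) ⟶
        DerivedCategory.Q.obj (zObj D P) => (DRing.restrictD φ).map x ≫ cP D P) := by
  haveI := Groth.Agent.Lib.Helper26.DTenSplit.isKProjective_extCx φ T
  let B₁ : (DerivedCategory.Q.obj ((extCx φ).obj T) ⟶ DerivedCategory.Q.obj (zObj D P)) →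
      (DerivedCategory.Q.obj T ⟶ DerivedCategory.Q.obj (P ⊗ D.V)) := fun x =>
    adjunctD (mAdj φ) T (DerivedCategory.Q.obj (zObj D P)) x ≫
      ((resFactors φ).hom.app (zObj D P) ≫ inv (DerivedCategory.Q.map (pk D P)))
  have hB₁ : Function.Bijective B₁ :=
    (bij_postcomp (DerivedCategory.Q.obj T)
      ((resFactors φ).hom.app (zObj D P) ≫ inv (DerivedCategory.Q.map (pk D P)))).comp
      (bijective_adjunctD (mAdj φ) T (DerivedCategory.Q.obj (zObj D P)))
  have hB₂ := bij_postcomp (DerivedCategory.Q.obj T)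
    (DerivedCategory.Q.map ((P ◁ cmap D) ≫ canon P (𝟙_ (DRing.Cx R)) D.E))
  have hB₃ := bijective_uncurryD T D.E (P ⊗ 𝟙_ (DRing.Cx R))
  have hB₄ := bij_postcomp (DerivedCategory.Q.obj (T ⊗ D.E)) (DerivedCategory.Q.map (ρ_ P).hom)
  have hB₅ := bij_precomp (DerivedCategory.Q.obj P)
    (DerivedCategory.Q.map (uR φ D.E D.q T) ≫ (resFactors φ).inv.app ((extCx φ).obj T))
  have hall := hB₄.comp (hB₃.comp (hB₂.comp hB₁))
  refine (Function.Bijective.of_comp_iff' hB₅ _).1 ?_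
  convert hall using 1
  funext x
  obtain ⟨x', rfl⟩ := Q_map_surjective ((extCx φ).obj T) (zObj D P) x
  obtain ⟨y₂, hy₂⟩ := Q_map_surjective T (P ⊗ D.V)
    (DerivedCategory.Q.map (adjunct (mAdj φ) x') ≫ inv (DerivedCategory.Q.map (pk D P)))
  have hy : DerivedCategory.Q.map (y₂ ≫ pk D P) = DerivedCategory.Q.map (adjunct (mAdj φ) x') := by
    rw [Functor.map_comp, hy₂, Category.assoc, IsIso.inv_hom_id, Category.comp_id]
  have hB₁x : B₁ (DerivedCategory.Q.map x') = DerivedCategory.Q.map y₂ := by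
    dsimp only [B₁]
    rw [adjunctD_Q_map, hy₂, Category.assoc, Iso.inv_hom_id_app_assoc]
  have key := key_formula D P T x' y₂ hy
  dsimp only [Function.comp]
  rw [hB₁x, ← Functor.map_comp, uncurryD_Q_map, ← Functor.map_comp, Category.assoc, key]

end Theta

end Groth.Agent.Lib.Helper90.DTen.Rel
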