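import Groth.Agent.Lib.Helper90.DTen.Rel.PF0

/-!
# The projection formula on complexes: `P ⊗_R res W ≅ res (ext P ⊗_A W)` (helper90)
-/

set_option autoImplicit false
set_option backward.isDefEq.respectTransparency false
universe u
open CategoryTheory CategoryTheory.Limits MonoidalCategory
open scoped TensorProduct ChangeOfRings
attribute [local instance] HasDerivedCategory.standard

namespace Groth.Agent.Lib.Helper90.DTen.Rel

open _root_.DTen Groth.Agent.Lib.Helper28 Groth.Agent.Lib.Helper26.AdjKProj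
  Groth.Agent.Lib.Helper90.DTen.BC

variable {R A : Type u} [CommRing R] [CommRing A] (φ : R →+* A)

/-- The projection map of complexes `P ⊗_R res W ⟶ res (ext P ⊗_A W)`. -/
noncomputable def pf (P : DRing.Cx R) (W : DRing.Cx A) :
    P ⊗ (resCx φ).obj W ⟶ (resCx φ).obj ((extCx φ).obj P ⊗ W) :=
  ((unitCx φ).app P ▷ (resCx φ).obj W) ≫ resTenCx φ ((extCx φ).obj P) W

lemma ι_pf (P : DRing.Cx R) (W : DRing.Cx A) (p q n : ℤ) (h : p + q = n) :
    TensCx.ι P ((resCx φ).obj W) p q n h ≫ (pf φ P W).f n =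
      pf₀ φ (P.X p) (W.X q) ≫ (resM φ).map (TensCx.ι ((extCx φ).obj P) W p q n h) := by
  have h1 : TensCx.ι P ((resCx φ).obj W) p q n h ≫
      ((unitCx φ).app P ▷ (resCx φ).obj W).f n =
      (((unitCx φ).app P).f p ▷ ((resCx φ).obj W).X q) ≫
        TensCx.ι ((resCx φ).obj ((extCx φ).obj P)) ((resCx φ).obj W) p q n h :=
    TensCx.isDiag_whiskerRight ((unitCx φ).app P) ((resCx φ).obj W) n p q h
  have h2 := ι_resTenCx φ ((extCx φ).obj P) W p q n h
  dsimp only [pf]
  rw [HomologicalComplex.comp_f, reassoc_of% h1]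
  erw [h2]
  dsimp only [pf₀]
  rw [Category.assoc]
  rfl

lemma pf_naturality_left {P P' : DRing.Cx R} (g : P ⟶ P') (W : DRing.Cx A) :
    (g ▷ (resCx φ).obj W) ≫ pf φ P' W =
      pf φ P W ≫ (resCx φ).map ((extCx φ).map g ▷ W) := by
  dsimp only [pf]
  have h1 := (unitCx φ).naturality g
  dsimp only [Functor.id_obj, Functor.id_map, Functor.comp_obj, Functor.comp_map] at h1
  have h2 := resTenCx_whiskerRight φ ((extCx φ).map g) W
  rw [Category.assoc, ← h2, ← comp_whiskerRight_assoc, ← comp_whiskerRight_assoc, h1]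

lemma pf_naturality_right (P : DRing.Cx R) {W W' : DRing.Cx A} (w : W ⟶ W') :
    (P ◁ (resCx φ).map w) ≫ pf φ P W' =
      pf φ P W ≫ (resCx φ).map ((extCx φ).obj P ◁ w) := by
  dsimp only [pf]
  have h2 := resTenCx_whiskerLeft φ ((extCx φ).obj P) w
  rw [Category.assoc, ← h2, whisker_exchange_assoc]
  rfl

section IsIso

variable (P : DRing.Cx R) (W : DRing.Cx A)

/-- the restriction-coextension adjunction on modules -/
noncomputable abbrev cAdj : ModuleCat.restrictScalars.{u} φ ⊣ ModuleCat.coextendScalars.{u, u, u} φ :=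
  ModuleCat.restrictCoextendScalarsAdj.{u, u, u} φ

/-- the adjunct of the candidate inverse of `pf` in degree `n` -/
noncomputable def pfInvAdj (n : ℤ) :
    ((extCx φ).obj P ⊗ W).X n ⟶
      (ModuleCat.coextendScalars.{u, u, u} φ).obj ((P ⊗ (resCx φ).obj W).X n) :=
  HomologicalComplex.mapBifunctorDesc (fun p q h =>
    (cAdj φ).homEquiv _ _ (inv (pf₀ φ (P.X p) (W.X q)) ≫ TensCx.ι P ((resCx φ).obj W) p q n h))

lemma ι_pfInvAdj (p q n : ℤ) (h : p + q = n) :
    TensCx.ι ((extCx φ).obj P) W p q n h ≫ pfInvAdj φ P W n =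
      (cAdj φ).homEquiv _ _
        (inv (pf₀ φ (P.X p) (W.X q)) ≫ TensCx.ι P ((resCx φ).obj W) p q n h) := by
  dsimp only [pfInvAdj, TensCx.ι]
  erw [HomologicalComplex.ι_mapBifunctorDesc]
  rfl

/-- the candidate inverse of `pf` in degree `n` -/
noncomputable def pfInv (n : ℤ) :
    ((resCx φ).obj ((extCx φ).obj P ⊗ W)).X n ⟶ (P ⊗ (resCx φ).obj W).X n :=
  ((cAdj φ).homEquiv _ _).symm (pfInvAdj φ P W n)

lemma pf_pfInv (n : ℤ) : (pf φ P W).f n ≫ pfInv φ P W n = 𝟙 _ := by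
  apply TensCx.hom_ext
  intro p q h
  rw [← Category.assoc, ι_pf, Category.assoc, Category.comp_id]
  dsimp only [pfInv]
  rw [Adjunction.homEquiv_counit, ← Category.assoc ((resM φ).map _), ← Functor.map_comp,
    ι_pfInvAdj, ← Adjunction.homEquiv_counit, Equiv.symm_apply_apply, IsIso.hom_inv_id_assoc]

lemma pfInv_pf (n : ℤ) : pfInv φ P W n ≫ (pf φ P W).f n = 𝟙 _ := by
  apply ((cAdj φ).homEquiv _ _).injective
  dsimp only [pfInv]
  rw [Adjunction.homEquiv_naturality_right, Equiv.apply_symm_apply]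
  apply TensCx.hom_ext
  intro p q h
  have e1 : (cAdj φ).homEquiv _ _
        (inv (pf₀ φ (P.X p) (W.X q)) ≫ TensCx.ι P ((resCx φ).obj W) p q n h) ≫
      (ModuleCat.coextendScalars.{u, u, u} φ).map ((pf φ P W).f n) =
      (cAdj φ).homEquiv _ _ ((inv (pf₀ φ (P.X p) (W.X q)) ≫
        TensCx.ι P ((resCx φ).obj W) p q n h) ≫ (pf φ P W).f n) :=
    ((cAdj φ).homEquiv_naturality_right _ _).symm
  have e2 : (inv (pf₀ φ (P.X p) (W.X q)) ≫ TensCx.ι P ((resCx φ).obj W) p q n h) ≫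
      (pf φ P W).f n = (resM φ).map (TensCx.ι ((extCx φ).obj P) W p q n h) := by
    rw [Category.assoc, ι_pf, IsIso.inv_hom_id_assoc]
  have e3 : (cAdj φ).homEquiv (((extCx φ).obj P ⊗ W).X n) _
      (𝟙 ((resM φ).obj (((extCx φ).obj P ⊗ W).X n))) =
      (cAdj φ).unit.app (((extCx φ).obj P ⊗ W).X n) := by
    rw [Adjunction.homEquiv_unit, CategoryTheory.Functor.map_id]
    exact Category.comp_id _
  rw [← Category.assoc, ι_pfInvAdj, e1, e2]
  erw [e3]
  rw [Adjunction.homEquiv_unit]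
  exact ((cAdj φ).unit.naturality (TensCx.ι ((extCx φ).obj P) W p q n h)).symm

instance isIso_pf : IsIso (pf φ P W) := by
  have : ∀ n, IsIso ((pf φ P W).f n) := fun n =>
    ⟨pfInv φ P W n, pf_pfInv φ P W n, pfInv_pf φ P W n⟩
  exact HomologicalComplex.Hom.isIso_of_components _

end IsIso

end Groth.Agent.Lib.Helper90.DTen.Rel
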