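import Groth.Agent.Lib.Helper90.DTen.Rel.ResAssoc

/-!
# The projection formula on modules: `M ⊗_R res N ≅ res (ext M ⊗_A N)` (helper90)
-/

set_option autoImplicit false
set_option backward.isDefEq.respectTransparency false
universe u
open CategoryTheory CategoryTheory.Limits MonoidalCategory
open scoped TensorProduct ChangeOfRings
attribute [local instance] HasDerivedCategory.standard

namespace Groth.Agent.Lib.Helper90.DTen.Rel

open _root_.DTen Groth.Agent.Lib.Helper28 Groth.Agent.Lib.Helper26.AdjKProj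
  Groth.Agent.Lib.Helper90.DTen.BC

variable {R A : Type u} [CommRing R] [CommRing A] (φ : R →+* A)

/-- The module-level projection map `M ⊗_R res N ⟶ res (ext M ⊗_A N)`, `m ⊗ n ↦ (1 ⊗ m) ⊗ n`. -/
noncomputable def pf₀ (M : ModuleCat.{u} R) (N : ModuleCat.{u} A) :
    M ⊗ (resM φ).obj N ⟶ (resM φ).obj ((ModuleCat.extendScalars.{u, u, u} φ).obj M ⊗ N) :=
  ((mAdj φ).unit.app M ▷ (resM φ).obj N) ≫
    resTen₀app φ ((ModuleCat.extendScalars.{u, u, u} φ).obj M) N

lemma pf₀_tmul (M : ModuleCat.{u} R) (N : ModuleCat.{u} A) (m : M) (n : N) :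
    (pf₀ φ M N).hom (m ⊗ₜ[R] (show (resM φ).obj N from n)) =
      (show (resM φ).obj ((ModuleCat.extendScalars.{u, u, u} φ).obj M ⊗ N) from
        (((1 : A) ⊗ₜ[R,φ] m : (ModuleCat.extendScalars.{u, u, u} φ).obj M) ⊗ₜ[A] n :
          ((ModuleCat.extendScalars.{u, u, u} φ).obj M ⊗ N : ModuleCat.{u} A))) := rfl

section Inv

variable (M : ModuleCat.{u} R) (N : ModuleCat.{u} A)

/-- the `R`-bilinear map `(a, m) ↦ m ⊗ (a • n)` -/
noncomputable def invBil (n : N) :
    ((ModuleCat.restrictScalars.{u} φ).obj (ModuleCat.of A A)) →ₗ[R] M →ₗ[R]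
      ↑(M ⊗ (resM φ).obj N) :=
  LinearMap.mk₂ R
    (fun (a : (ModuleCat.restrictScalars.{u} φ).obj (ModuleCat.of A A)) (m : M) =>
      (m ⊗ₜ[R] (show (resM φ).obj N from ((show A from a) • n)) : ↑(M ⊗ (resM φ).obj N)))
    (fun a a' m => by
      change m ⊗ₜ[R] (show (resM φ).obj N from (((show A from a) + (show A from a')) • n)) = _
      rw [add_smul]
      exact TensorProduct.tmul_add _ _ _)
    (fun r a m => by
      change m ⊗ₜ[R] (show (resM φ).obj N from ((φ r * (show A from a)) • n)) = _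
      rw [mul_smul]
      exact (TensorProduct.tmul_smul r m (show (resM φ).obj N from ((show A from a) • n))))
    (fun a m m' => TensorProduct.add_tmul _ _ _)
    (fun r a m => (TensorProduct.smul_tmul' r m _).symm)

/-- the additive map `ext M ⟶ M ⊗ res N`, `a ⊗ m ↦ m ⊗ a • n`. -/
noncomputable def invAdd₁ (n : N) :
    ↑((ModuleCat.extendScalars.{u, u, u} φ).obj M) →+ ↑(M ⊗ (resM φ).obj N) :=
  (TensorProduct.lift (invBil φ M N n)).toAddMonoidHom

lemma invAdd₁_tmul (n : N) (a : A) (m : M) :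
    invAdd₁ φ M N n (a ⊗ₜ[R,φ] m) =
      (m ⊗ₜ[R] (show (resM φ).obj N from (a • n)) : ↑(M ⊗ (resM φ).obj N)) := rfl

/-- `invAdd₁` as an additive map in `n`. -/
noncomputable def invAdd₂ :
    ↑N →+ (↑((ModuleCat.extendScalars.{u, u, u} φ).obj M) →+ ↑(M ⊗ (resM φ).obj N)) where
  toFun n := invAdd₁ φ M N n
  map_zero' := by
    apply AddMonoidHom.ext
    intro x
    refine TensorProduct.induction_on (R := R)
      (M := ↑((ModuleCat.restrictScalars.{u} φ).obj (ModuleCat.of A A))) (N := ↑M) x ?_ ?_ ?_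
    · exact map_zero _
    · intro a m
      change invAdd₁ φ M N 0 ((show A from a) ⊗ₜ[R,φ] m) = 0
      rw [invAdd₁_tmul, smul_zero]
      exact TensorProduct.tmul_zero _ _
    · intro z z' hz hz'
      rw [map_add, hz, hz', AddMonoidHom.zero_apply, AddMonoidHom.zero_apply,
        AddMonoidHom.zero_apply, add_zero]
  map_add' n n' := by
    apply AddMonoidHom.ext
    intro x
    refine TensorProduct.induction_on (R := R)
      (M := ↑((ModuleCat.restrictScalars.{u} φ).obj (ModuleCat.of A A))) (N := ↑M) x ?_ ?_ ?_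
    · rw [map_zero, map_zero]
    · intro a m
      change invAdd₁ φ M N (n + n') ((show A from a) ⊗ₜ[R,φ] m) =
        invAdd₁ φ M N n ((show A from a) ⊗ₜ[R,φ] m) + invAdd₁ φ M N n' ((show A from a) ⊗ₜ[R,φ] m)
      rw [invAdd₁_tmul, invAdd₁_tmul, invAdd₁_tmul, smul_add]
      exact TensorProduct.tmul_add _ _ _
    · intro z z' hz hz'
      rw [map_add, hz, hz', map_add]

lemma invAdd₂_balanced (a : A) (x : ↑((ModuleCat.extendScalars.{u, u, u} φ).obj M)) (n : N) :
    (invAdd₂ φ M N).flip (a • x) n = (invAdd₂ φ M N).flip x (a • n) := by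
  change invAdd₁ φ M N n (a • x) = invAdd₁ φ M N (a • n) x
  refine TensorProduct.induction_on (R := R)
    (M := ↑((ModuleCat.restrictScalars.{u} φ).obj (ModuleCat.of A A))) (N := ↑M) x ?_ ?_ ?_
  · rw [smul_zero, map_zero, map_zero]
  · intro a' m
    change invAdd₁ φ M N n (a • ((show A from a') ⊗ₜ[R,φ] m :
        (ModuleCat.extendScalars.{u, u, u} φ).obj M)) =
      invAdd₁ φ M N (a • n) ((show A from a') ⊗ₜ[R,φ] m)
    rw [ModuleCat.ExtendScalars.smul_tmul, invAdd₁_tmul, invAdd₁_tmul, mul_smul, smul_comm]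
  · intro z z' hz hz'
    rw [smul_add, map_add, hz, hz', map_add]

/-- the candidate inverse of `pf₀`, as an additive map. -/
noncomputable def invAdd :
    ↑((ModuleCat.extendScalars.{u, u, u} φ).obj M ⊗ N : ModuleCat.{u} A) →+
      ↑(M ⊗ (resM φ).obj N) :=
  TensorProduct.liftAddHom (invAdd₂ φ M N).flip (invAdd₂_balanced φ M N)

lemma invAdd_tmul (a : A) (m : M) (n : N) :
    invAdd φ M N (((a ⊗ₜ[R,φ] m : (ModuleCat.extendScalars.{u, u, u} φ).obj M) ⊗ₜ[A] n :
      ((ModuleCat.extendScalars.{u, u, u} φ).obj M ⊗ N : ModuleCat.{u} A))) =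
      (m ⊗ₜ[R] (show (resM φ).obj N from (a • n)) : ↑(M ⊗ (resM φ).obj N)) := rfl

lemma invAdd_pf₀ (z : ↑(M ⊗ (resM φ).obj N)) : invAdd φ M N ((pf₀ φ M N).hom z) = z := by
  refine TensorProduct.induction_on (R := R) (M := ↑M) (N := ↑((resM φ).obj N)) z ?_ ?_ ?_
  · rw [map_zero, map_zero]
  · intro m n
    change invAdd φ M N ((pf₀ φ M N).hom (m ⊗ₜ[R] (show (resM φ).obj N from (show N from n)))) = _
    rw [pf₀_tmul]
    change invAdd φ M N ((((1 : A) ⊗ₜ[R,φ] m : (ModuleCat.extendScalars.{u, u, u} φ).obj M) ⊗ₜ[A]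
      (show N from n) : ((ModuleCat.extendScalars.{u, u, u} φ).obj M ⊗ N : ModuleCat.{u} A))) = _
    rw [invAdd_tmul, one_smul]
  · intro z z' hz hz'
    rw [map_add, map_add, hz, hz']

lemma pf₀_invAdd (w : ↑((ModuleCat.extendScalars.{u, u, u} φ).obj M ⊗ N : ModuleCat.{u} A)) :
    (pf₀ φ M N).hom (invAdd φ M N w) =
      (show (resM φ).obj ((ModuleCat.extendScalars.{u, u, u} φ).obj M ⊗ N) from w) := by
  refine TensorProduct.induction_on (R := A)
    (M := ↑((ModuleCat.extendScalars.{u, u, u} φ).obj M)) (N := ↑N) w ?_ ?_ ?_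
  · rw [map_zero, map_zero]
  · intro x n
    refine TensorProduct.induction_on (R := R)
      (M := ↑((ModuleCat.restrictScalars.{u} φ).obj (ModuleCat.of A A))) (N := ↑M) x ?_ ?_ ?_
    · rw [TensorProduct.zero_tmul, map_zero, map_zero]
    · intro a m
      change (pf₀ φ M N).hom (invAdd φ M N ((((show A from a) ⊗ₜ[R,φ] m :
        (ModuleCat.extendScalars.{u, u, u} φ).obj M) ⊗ₜ[A] n :
          ((ModuleCat.extendScalars.{u, u, u} φ).obj M ⊗ N : ModuleCat.{u} A)))) = _
      rw [invAdd_tmul, pf₀_tmul]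
      change ((((1 : A) ⊗ₜ[R,φ] m : (ModuleCat.extendScalars.{u, u, u} φ).obj M) ⊗ₜ[A]
        ((show A from a) • n) : ((ModuleCat.extendScalars.{u, u, u} φ).obj M ⊗ N : ModuleCat.{u} A))) =
        ((((show A from a) ⊗ₜ[R,φ] m : (ModuleCat.extendScalars.{u, u, u} φ).obj M) ⊗ₜ[A] n :
          ((ModuleCat.extendScalars.{u, u, u} φ).obj M ⊗ N : ModuleCat.{u} A)))
      rw [← TensorProduct.smul_tmul, ModuleCat.ExtendScalars.smul_tmul, mul_one]
    · intro z z' hz hz'
      rw [TensorProduct.add_tmul, map_add, map_add, hz, hz']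
  · intro z z' hz hz'
    rw [map_add, map_add, hz, hz']

instance isIso_pf₀ : IsIso (pf₀ φ M N) := by
  rw [ConcreteCategory.isIso_iff_bijective]
  constructor
  · intro z z' h
    have h' : (pf₀ φ M N).hom z = (pf₀ φ M N).hom z' := h
    rw [← invAdd_pf₀ φ M N z, ← invAdd_pf₀ φ M N z', h']
  · intro w
    exact ⟨invAdd φ M N (show ↑((ModuleCat.extendScalars.{u, u, u} φ).obj M ⊗ N :
      ModuleCat.{u} A) from w), pf₀_invAdd φ M N _⟩

end Inv

end Groth.Agent.Lib.Helper90.DTen.Rel
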