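import Groth.Agent.Lib.Helper90.DTen.BC.Sigma

/-!
# Lax associativity of `resTenCx` (helper90)
-/

set_option autoImplicit false
set_option backward.isDefEq.respectTransparency false
universe u
open CategoryTheory CategoryTheory.Limits MonoidalCategory
attribute [local instance] HasDerivedCategory.standard

namespace Groth.Agent.Lib.Helper90.DTen.Rel

open _root_.DTen Groth.Agent.Lib.Helper28 Groth.Agent.Lib.Helper26.AdjKProj
  Groth.Agent.Lib.Helper90.DTen.BC

variable {R R' : Type u} [CommRing R] [CommRing R'] (φ : R →+* R')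

/-- `resTenCx` and whiskering on the left (naturality in the second variable). -/
lemma resTenCx_whiskerLeft (X : DRing.Cx R') {Y Y' : DRing.Cx R'} (g : Y ⟶ Y') :
    ((resCx φ).obj X ◁ (resCx φ).map g) ≫ resTenCx φ X Y' =
      resTenCx φ X Y ≫ (resCx φ).map (X ◁ g) := by
  have h := resTenCx_naturality φ (𝟙 X) g
  rw [CategoryTheory.Functor.map_id, MonoidalCategory.id_tensorHom,
    MonoidalCategory.id_tensorHom] at h
  exact h

/-- `resTenCx` and whiskering on the right (naturality in the first variable). -/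
lemma resTenCx_whiskerRight {X X' : DRing.Cx R'} (f : X ⟶ X') (Y : DRing.Cx R') :
    ((resCx φ).map f ▷ (resCx φ).obj Y) ≫ resTenCx φ X' Y =
      resTenCx φ X Y ≫ (resCx φ).map (f ▷ Y) := by
  have h := resTenCx_naturality φ f (𝟙 Y)
  rw [CategoryTheory.Functor.map_id, MonoidalCategory.tensorHom_id,
    MonoidalCategory.tensorHom_id] at h
  exact h

lemma resTen₀app_whiskerRight {M M' : ModuleCat.{u} R'} (a : M ⟶ M') (N : ModuleCat.{u} R') :
    ((resM φ).map a ▷ (resM φ).obj N) ≫ resTen₀app φ M' N =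
      resTen₀app φ M N ≫ (resM φ).map (a ▷ N) := by
  have h := resTen₀app_naturality φ a (𝟙 N)
  rw [CategoryTheory.Functor.map_id, MonoidalCategory.tensorHom_id,
    MonoidalCategory.tensorHom_id] at h
  exact h

lemma resTen₀app_whiskerLeft (M : ModuleCat.{u} R') {N N' : ModuleCat.{u} R'} (b : N ⟶ N') :
    ((resM φ).obj M ◁ (resM φ).map b) ≫ resTen₀app φ M N' =
      resTen₀app φ M N ≫ (resM φ).map (M ◁ b) := by
  have h := resTen₀app_naturality φ (𝟙 M) b
  rw [CategoryTheory.Functor.map_id, MonoidalCategory.id_tensorHom,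
    MonoidalCategory.id_tensorHom] at h
  exact h

/-- left-hand side of the associativity on a summand -/
lemma resTenCx_assoc_lhs (X Y Z : DRing.Cx R') (a b c ab bc n : ℤ) (hab : a + b = ab)
    (hbc : b + c = bc) (hn : ab + c = n) (hn' : a + bc = n) :
    (TensCx.ι ((resCx φ).obj X) ((resCx φ).obj Y) a b ab hab ▷ ((resCx φ).obj Z).X c) ≫
      TensCx.ι ((resCx φ).obj X ⊗ (resCx φ).obj Y) ((resCx φ).obj Z) ab c n hn ≫
      ((resTenCx φ X Y ▷ (resCx φ).obj Z) ≫ resTenCx φ (X ⊗ Y) Z ≫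
        (resCx φ).map (α_ X Y Z).hom).f n =
    (resTen₀app φ (X.X a) (Y.X b) ▷ (resM φ).obj (Z.X c)) ≫
      resTen₀app φ (X.X a ⊗ Y.X b) (Z.X c) ≫
      (resM φ).map (α_ (X.X a) (Y.X b) (Z.X c)).hom ≫
      (resM φ).map (X.X a ◁ TensCx.ι Y Z b c bc hbc) ≫
      (resM φ).map (TensCx.ι X (Y ⊗ Z) a bc n hn') := by
  have h1 : TensCx.ι ((resCx φ).obj X ⊗ (resCx φ).obj Y) ((resCx φ).obj Z) ab c n hn ≫
      (resTenCx φ X Y ▷ (resCx φ).obj Z).f n =
      ((resTenCx φ X Y).f ab ▷ ((resCx φ).obj Z).X c) ≫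
      TensCx.ι ((resCx φ).obj (X ⊗ Y)) ((resCx φ).obj Z) ab c n hn :=
    TensCx.isDiag_whiskerRight (resTenCx φ X Y) ((resCx φ).obj Z) n ab c hn
  have h2 := ι_resTenCx φ X Y a b ab hab
  have h3 := ι_resTenCx φ (X ⊗ Y) Z ab c n hn
  have h4 := resTen₀app_whiskerRight φ (TensCx.ι X Y a b ab hab) (Z.X c)
  have h5 := TensCx.ι_ι_associator_hom X Y Z a b c ab bc n hab hbc hn hn'
  have e0 : ((resCx φ).map (α_ X Y Z).hom).f n = (resM φ).map ((α_ X Y Z).hom.f n) := rfl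
  rw [HomologicalComplex.comp_f, HomologicalComplex.comp_f, e0]
  rw [reassoc_of% h1, ← comp_whiskerRight_assoc]
  erw [h2]
  rw [comp_whiskerRight_assoc]
  erw [reassoc_of% h3]
  erw [reassoc_of% h4]
  rw [← Functor.map_comp, ← Functor.map_comp]
  erw [h5]
  rw [Functor.map_comp, Functor.map_comp]
  rfl

/-- right-hand side of the associativity on a summand -/
lemma resTenCx_assoc_rhs (X Y Z : DRing.Cx R') (a b c ab bc n : ℤ) (hab : a + b = ab)
    (hbc : b + c = bc) (hn : ab + c = n) (hn' : a + bc = n) :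
    (TensCx.ι ((resCx φ).obj X) ((resCx φ).obj Y) a b ab hab ▷ ((resCx φ).obj Z).X c) ≫
      TensCx.ι ((resCx φ).obj X ⊗ (resCx φ).obj Y) ((resCx φ).obj Z) ab c n hn ≫
      ((α_ ((resCx φ).obj X) ((resCx φ).obj Y) ((resCx φ).obj Z)).hom ≫
        ((resCx φ).obj X ◁ resTenCx φ Y Z) ≫ resTenCx φ X (Y ⊗ Z)).f n =
    (α_ ((resM φ).obj (X.X a)) ((resM φ).obj (Y.X b)) ((resM φ).obj (Z.X c))).hom ≫
      ((resM φ).obj (X.X a) ◁ resTen₀app φ (Y.X b) (Z.X c)) ≫
      resTen₀app φ (X.X a) (Y.X b ⊗ Z.X c) ≫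
      (resM φ).map (X.X a ◁ TensCx.ι Y Z b c bc hbc) ≫
      (resM φ).map (TensCx.ι X (Y ⊗ Z) a bc n hn') := by
  have k1 := TensCx.ι_ι_associator_hom ((resCx φ).obj X) ((resCx φ).obj Y) ((resCx φ).obj Z)
    a b c ab bc n hab hbc hn hn'
  have k2 : TensCx.ι ((resCx φ).obj X) ((resCx φ).obj Y ⊗ (resCx φ).obj Z) a bc n hn' ≫
      ((resCx φ).obj X ◁ resTenCx φ Y Z).f n =
      (((resCx φ).obj X).X a ◁ (resTenCx φ Y Z).f bc) ≫
      TensCx.ι ((resCx φ).obj X) ((resCx φ).obj (Y ⊗ Z)) a bc n hn' :=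
    TensCx.isDiag_whiskerLeft ((resCx φ).obj X) (resTenCx φ Y Z) n a bc hn'
  have k3 := ι_resTenCx φ Y Z b c bc hbc
  have k4 := ι_resTenCx φ X (Y ⊗ Z) a bc n hn'
  have k5 := resTen₀app_whiskerLeft φ (X.X a) (TensCx.ι Y Z b c bc hbc)
  rw [HomologicalComplex.comp_f, HomologicalComplex.comp_f]
  rw [reassoc_of% k1, reassoc_of% k2, ← MonoidalCategory.whiskerLeft_comp_assoc]
  erw [k3]
  rw [MonoidalCategory.whiskerLeft_comp_assoc]
  erw [k4]
  erw [reassoc_of% k5]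
  rfl

/-- Lax associativity of `resTenCx`. -/
theorem resTenCx_assoc (X Y Z : DRing.Cx R') :
    (resTenCx φ X Y ▷ (resCx φ).obj Z) ≫ resTenCx φ (X ⊗ Y) Z ≫
        (resCx φ).map (α_ X Y Z).hom =
      (α_ ((resCx φ).obj X) ((resCx φ).obj Y) ((resCx φ).obj Z)).hom ≫
        ((resCx φ).obj X ◁ resTenCx φ Y Z) ≫ resTenCx φ X (Y ⊗ Z) := by
  ext n : 1
  apply triple_hom_ext
  intro a b c ab hab hn
  rw [resTenCx_assoc_lhs φ X Y Z a b c ab (b + c) n hab rfl hn (by omega),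
    resTenCx_assoc_rhs φ X Y Z a b c ab (b + c) n hab rfl hn (by omega)]
  have h := Functor.LaxMonoidal.associativity (ModuleCat.restrictScalars.{u} φ)
    (X.X a) (Y.X b) (Z.X c)
  rw [← resTen₀app_eq_μ, ← resTen₀app_eq_μ, ← resTen₀app_eq_μ, ← resTen₀app_eq_μ] at h
  rw [reassoc_of% h]

end Groth.Agent.Lib.Helper90.DTen.Rel
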